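import Mathlib
import Cfsg.Prelude.Def_ChevStructure
import Cfsg.Prelude.Def_LieTwisted
import Cfsg.Prelude.Def_KGroupFacts
import Cfsg.Agent.Lib.Helper10.TEM.Defs
import Cfsg.Agent.Lib.helper8.ChevTwH1
import Cfsg.Agent.Lib.helper7.CeA

/-!
# Project T2E = S2108 (designer helper3): the Schur multiplier of `²E₆(q)`, `q ≠ 2`, is cyclic of order
`gcd(3, q + 1)`.  Definitions.

Everything happens INSIDE a central extension `π : Γ → G¹ = twistedE6 K q` (no abstract Steinberg system):
the twisted root elements `XT q r t` have CANONICAL lifts `L r t` (additive, equivariant under the torus, hence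
unique, hence equivariant under the lifts of the monomial group), the lifts satisfy the commutator relations
in the weak form `wrel`, and then `Γ = Ũ Ñ Ũ` with `Ũ ≅ U¹`, so that `ker π` sits in the lifted torus, which is
a homomorphic image of `(K^×)² × (k^×)²` over helper8's parametrization `h8psiE6` of the torus of `G¹`.

Roots of `chevE6`: index `r < 72`, `-r = 71 - r`, positive `36 … 71`, simple `α₁ … α₆ = 56 46 42 39 37 36`;
`σ = h8sE6`, signs `η = h8eE6`; notation `X hh nW nO XS GG Frob hB …` of helper10's `TEM/Defs`.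
-/

set_option autoImplicit false

namespace Cfsg.Agent.Lib.helper3.T2E

open Cfsg.Lie Cfsg.Lie.ChevalleyDatum Matrix
open Cfsg.Agent.Lib.helper8 Cfsg.Agent.Lib.Helper10.TEM Cfsg.Agent.Lib.helper7.Ce
  Cfsg.Agent.Lib.helper15.St2

universe u

section Down

variable {K : Type u} [Field K]

/-- the parameter `t` is admissible for the twisted root element of index `r`: `t ∈ k` if `r` is fixed by `σ` -/
def Adm (q r : ℕ) (t : K) : Prop := h8sE6 r = r → t ^ q = t

/-- the twisted root element: `x_r(t)` (`r` fixed, meant for `t ∈ k`), `x_r(t) x_{σ r}(η_r t^q)` otherwise -/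
def XT (q r : ℕ) (t : K) : GG K := if h8sE6 r = r then X r t else XS q r t

/-- the twisted Weyl element `n_r(t) = x_r(t) x_{-r}(-t⁻¹) x_r(t)` -/
def NT (q r : ℕ) (t : K) : GG K := XT q r t * XT q (71 - r) (-t⁻¹) * XT q r t

/-- the twisted torus element `h_r(t) = n_r(t) n_r(-1)` -/
def HT (q r : ℕ) (t : K) : GG K := NT q r t * NT q r (-1)

variable (K) in
/-- `N¹ = N ∩ G¹` -/
def N1 (q : ℕ) : Subgroup (GG K) := chevE6.monomialSubgroup K ⊓ twistedE6 K q

/-- the fixed field `k` of the Frobenius, as a subfield -/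
def kF (f : K ≃+* K) : Subfield K where
  carrier := {t | f t = t}
  mul_mem' := by
    intro a b ha hb
    show f (a * b) = a * b
    rw [map_mul, ha, hb]
  one_mem' := map_one f
  add_mem' := by
    intro a b ha hb
    show f (a + b) = a + b
    rw [map_add, ha, hb]
  zero_mem' := map_zero f
  neg_mem' := by
    intro a ha
    show f (-a) = -a
    rw [map_neg, ha]
  inv_mem' := by
    intro a ha
    show f a⁻¹ = a⁻¹
    rw [map_inv₀, ha]

/-- coordinates of `r + σ r` on the simple roots (twice the projection of `r` to the twisted root system `F₄`) -/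
def pv2 (r i : ℕ) : ℤ :=
  (chevE6.coroot.getD r #[]).getD i 0 + (chevE6.coroot.getD (h8sE6 r) #[]).getD i 0

/-- the twisted root of `c` is `i a + j b`, `i, j ∈ {1, 2}` (twisted roots of `a`, `b`) -/
def InCone (a b c : ℕ) : Prop :=
  c < 72 ∧ ∃ i ∈ [(1 : ℤ), 2], ∃ j ∈ [(1 : ℤ), 2], ∀ k < 6, pv2 c k = i * pv2 a k + j * pv2 b k

instance (a b c : ℕ) : Decidable (InCone a b c) := by unfold InCone; infer_instance

/-- the twisted roots of `a` and `b` are different and not opposite -/
def Indep (a b : ℕ) : Prop := b ≠ a ∧ b ≠ h8sE6 a ∧ b ≠ 71 - a ∧ b ≠ 71 - h8sE6 a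

instance (a b : ℕ) : Decidable (Indep a b) := by unfold Indep; infer_instance

/-- twice the height -/
def ht2 (r : ℕ) : ℤ := ((List.range 6).map (pv2 r)).sum

end Down

section Up

variable {K : Type u} [Field K] {q : ℕ} {Γ : Type u} [Group Γ]

/-- the composition of `π` with the inclusion of `G¹` in the general linear group -/
def pm (π : Γ →* ↥(twistedE6 K q)) : Γ →* GG K := (twistedE6 K q).subtype.comp π

/-- `L` is a canonical lift of the twisted root subgroup of index `r`: it lifts `XT q r`, is additive, and is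
equivariant under the lifts of the torus of `G¹` -/
structure IsRootLift (q : ℕ) (π : Γ →* ↥(twistedE6 K q)) (r : ℕ) (L : K → Γ) : Prop where
  map : ∀ t, Adm q r t → pm π (L t) = XT q r t
  add : ∀ s t, Adm q r s → Adm q r t → L (s + t) = L s * L t
  tor : ∀ γ : Γ, pm π γ ∈ chevE6.diagonalSubgroup K → ∀ t, Adm q r t →
    γ * L t * γ⁻¹ = L (h8chi chevE6 hB (pm π γ) r * t)

/-- a full system of canonical lifts of the twisted root elements -/
structure Lifts (q : ℕ) (π : Γ →* ↥(twistedE6 K q)) (L : ℕ → K → Γ) : Prop where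
  root : ∀ r < 72, IsRootLift q π r (L r)
  sig : ∀ r < 72, ∀ t, Adm q r t → L (h8sE6 r) (((h8eE6 r : ℤ) : K) * t ^ q) = L r t
  equi : ∀ γ : Γ, pm π γ ∈ chevE6.monomialSubgroup K → ∀ r < 72, ∀ r' < 72, ∀ κ : K,
    (∀ t, pm π γ * X r t * (pm π γ)⁻¹ = X r' (κ * t)) →
      ∀ t, Adm q r t → γ * L r t * γ⁻¹ = L r' (κ * t)
  wrel : ∀ a, 36 ≤ a → a < 72 → ∀ b, 36 ≤ b → b < 72 → Indep a b → ∀ t u, Adm q a t → Adm q b u →
    cm (L a t) (L b u) ∈
      Subgroup.closure {g : Γ | ∃ c, InCone a b c ∧ ∃ v, Adm q c v ∧ g = L c v}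

end Up

end Cfsg.Agent.Lib.helper3.T2E
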