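import Mathlib
import Cfsg.Agent.Lib.helper3.T2E.Defs

/-!
# T2E (S2108): definitions for the lifting blocks (A S C L U R) and the Bruhat block (B)
-/

set_option autoImplicit false

namespace Cfsg.Agent.Lib.helper3.T2E

open Cfsg.Lie Cfsg.Lie.ChevalleyDatum Matrix
open Cfsg.Agent.Lib.helper8 Cfsg.Agent.Lib.Helper10.TEM Cfsg.Agent.Lib.helper7.Ce
  Cfsg.Agent.Lib.helper15.St2

universe u

variable {K : Type u} [Field K] {q : ℕ} {Γ : Type u} [Group Γ]

/-- any two lifts (through `pm π`) of the matrices `x` and `y` commute -/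
def CLm (π : Γ →* ↥(twistedE6 K q)) (x y : GG K) : Prop :=
  ∀ a b : Γ, pm π a = x → pm π b = y → a * b = b * a

/-- the weak commutator relation for the lifts at the pair `(a, b)` -/
def WRel (q : ℕ) (L : ℕ → K → Γ) (a b : ℕ) : Prop :=
  ∀ t u, Adm q a t → Adm q b u →
    cm (L a t) (L b u) ∈
      Subgroup.closure {g : Γ | ∃ c, InCone a b c ∧ ∃ v, Adm q c v ∧ g = L c v}

/-- the reflection of the `k`-th simple twisted root on the indices of the roots of `E₆` -/
def wk (k r : ℕ) : ℕ := h8sW chevE6 (orbW k) r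

/-- the reflection word of a list of orbit indices on the indices of the roots of `E₆` -/
def wl (l : List ℕ) (r : ℕ) : ℕ := h8sW chevE6 (flatO l) r

/-- the simple twisted roots: `α₂`, `α₄`, `{α₃, α₅}`, `{α₁, α₆}` -/
def simp4 : List ℕ := [46, 39, 42, 56]

/-- the representatives of the twelve types of ordered pairs of independent twisted roots -/
def repPairs : List (ℕ × ℕ) :=
  [(46, 39), (39, 46), (56, 42), (42, 56), (42, 40), (40, 42), (39, 42), (42, 39),
   (46, 47), (47, 46), (39, 44), (44, 39), (44, 42), (42, 44), (39, 56), (56, 39), (56, 57), (57, 56)]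

section B

variable (q) (L : ℕ → K → Γ)

/-- the lifted positive unipotent group -/
def Ut : Subgroup Γ :=
  Subgroup.closure {g : Γ | ∃ r, 36 ≤ r ∧ r < 72 ∧ ∃ t, Adm q r t ∧ g = L r t}

/-- the lifted Weyl element -/
def nt (r : ℕ) (t : K) : Γ := L r t * L (71 - r) (-t⁻¹) * L r t

/-- the lifted torus element -/
def ht (r : ℕ) (t : K) : Γ := nt L r t * nt L r (-1)

/-- the lifted monomial group -/
def Nt : Subgroup Γ :=
  Subgroup.closure {g : Γ | ∃ r ∈ simp4, ∃ t, t ≠ 0 ∧ Adm q r t ∧ g = nt L r t}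

/-- the lifted torus -/
def Ht : Subgroup Γ :=
  Subgroup.closure {g : Γ | ∃ r ∈ simp4, ∃ t, t ≠ 0 ∧ Adm q r t ∧ g = ht L r t}

/-- the part of the lifted unipotent group away from the simple twisted root `c` -/
def Yt (c : ℕ) : Subgroup Γ :=
  Subgroup.closure {g : Γ | ∃ r, 36 ≤ r ∧ r < 72 ∧ r ≠ c ∧ r ≠ h8sE6 c ∧ ∃ t, Adm q r t ∧ g = L r t}

/-- the part of the lifted unipotent group from the `j`-th block on, in helper8's block order `h8posiE6` (blocks = twisted
positive roots, ordered by non-decreasing height; blocks `0 … 23`) -/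
def Ugt (j : ℕ) : Subgroup Γ :=
  Subgroup.closure {g : Γ | ∃ r, 36 ≤ r ∧ r < 72 ∧ j ≤ h8posiE6 r ∧ ∃ t, Adm q r t ∧ g = L r t}

end B

end Cfsg.Agent.Lib.helper3.T2E
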