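import Mathlib
import Cfsg.Agent.Lib.helper3.T2E.Defs2

/-!
# T2E (S2108): certificate tables for the Weyl group transport (generated from the Prelude tables; `wl l r` =
the image of the root index `r` under the word `l` of simple reflections of `W(F₄)`, first letter applied last)
-/

set_option autoImplicit false

namespace Cfsg.Agent.Lib.helper3.T2E

/-- certificates `(a, b, i, l)`: `wl l` maps the `i`-th pair of `repPairs` to the pair of twisted roots of `(a, b)`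
(`a`, `b` the smaller indices of their `σ`-orbits, positive) -/
def pairCert : List (ℕ × ℕ × ℕ × List ℕ) :=
  [(36, 37, 2, []),
   (36, 38, 16, []),
   (36, 39, 15, []),
   (36, 40, 2, [1]),
   (36, 41, 16, [1]),
   (36, 44, 7, [2, 3]),
   (36, 45, 4, [2, 3]),
   (36, 46, 15, [1, 0]),
   (36, 47, 15, [0]),
   (36, 48, 2, [0, 1]),
   (36, 49, 16, [0, 1]),
   (36, 51, 7, [2, 3, 0]),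
   (36, 52, 4, [2, 3, 0]),
   (36, 53, 7, [1, 2, 3, 0]),
   (36, 54, 4, [1, 2, 3, 0]),
   (36, 55, 2, [2, 1, 2, 3, 2, 1, 2, 0, 1]),
   (36, 60, 13, [2, 3]),
   (36, 63, 13, [2, 3, 0]),
   (36, 65, 13, [1, 2, 3, 0]),
   (36, 66, 16, [2, 1, 2, 3, 2, 1, 2, 0, 1]),
   (36, 69, 15, [2, 1, 2, 3, 2, 1, 2, 1, 0]),
   (36, 70, 15, [2, 1, 2, 3, 2, 1, 2, 0]),
   (36, 71, 15, [2, 0, 1, 2, 3, 2, 1, 2, 0]),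
   (37, 36, 2, [1, 2, 3, 1, 2, 1]),
   (37, 38, 16, [1, 2, 3, 1, 2, 1]),
   (37, 39, 7, []),
   (37, 40, 4, []),
   (37, 41, 2, [3, 2, 1]),
   (37, 44, 13, []),
   (37, 45, 16, [3, 2, 1]),
   (37, 46, 15, [3, 2, 1, 0]),
   (37, 47, 7, [0]),
   (37, 48, 4, [0]),
   (37, 49, 2, [3, 2, 0, 1]),
   (37, 51, 13, [0]),
   (37, 52, 16, [3, 2, 0, 1]),
   (37, 53, 15, [1, 2, 3, 1, 2, 1, 0]),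
   (37, 54, 2, [1, 2, 3, 1, 2, 0, 1]),
   (37, 55, 16, [1, 2, 3, 1, 2, 0, 1]),
   (37, 60, 15, [3, 2]),
   (37, 63, 15, [3, 2, 0]),
   (37, 65, 7, [3, 2, 1, 2, 3, 0]),
   (37, 66, 4, [3, 2, 1, 2, 3, 0]),
   (37, 69, 13, [3, 2, 1, 2, 3, 0]),
   (37, 70, 15, [1, 2, 3, 1, 2, 0]),
   (37, 71, 15, [0, 1, 2, 3, 1, 2, 0]),
   (38, 36, 16, [2]),
   (38, 37, 16, [1, 2, 3, 2, 1, 2, 1]),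
   (38, 39, 7, [3]),
   (38, 40, 2, [2, 1]),
   (38, 41, 4, [3]),
   (38, 44, 15, [2]),
   (38, 45, 16, [2, 1]),
   (38, 46, 15, [2, 1, 0]),
   (38, 47, 7, [3, 0]),
   (38, 48, 2, [2, 0, 1]),
   (38, 49, 4, [3, 0]),
   (38, 51, 15, [2, 0]),
   (38, 52, 16, [2, 0, 1]),
   (38, 53, 7, [2, 1, 2, 3, 0]),
   (38, 54, 2, [1, 2, 3, 2, 1, 2, 0, 1]),
   (38, 55, 4, [2, 1, 2, 3, 0]),
   (38, 60, 13, [3]),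
   (38, 63, 13, [3, 0]),
   (38, 65, 15, [1, 2, 3, 2, 1, 2, 1, 0]),
   (38, 66, 16, [1, 2, 3, 2, 1, 2, 0, 1]),
   (38, 69, 13, [2, 1, 2, 3, 0]),
   (38, 70, 15, [1, 2, 3, 2, 1, 2, 0]),
   (38, 71, 15, [0, 1, 2, 3, 2, 1, 2, 0]),
   (39, 36, 14, []),
   (39, 37, 6, []),
   (39, 38, 6, [3]),
   (39, 40, 12, [2, 1]),
   (39, 41, 12, [3, 2, 1]),
   (39, 44, 10, []),
   (39, 45, 14, [2, 1, 2]),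
   (39, 46, 0, [2, 1, 2, 0, 1, 2]),
   (39, 47, 8, [2, 1, 2, 0, 1, 2]),
   (39, 48, 14, [3, 0, 1, 2, 1, 0]),
   (39, 49, 14, [0, 1, 2, 1, 0]),
   (39, 51, 0, [0, 1, 2]),
   (39, 52, 6, [0, 1, 2, 3, 1, 0]),
   (39, 53, 8, [0, 1, 2]),
   (39, 54, 12, [0, 1, 2, 3, 1, 2, 0, 1]),
   (39, 55, 14, [2, 1, 2, 0, 1, 2, 1, 0]),
   (39, 60, 10, [3]),
   (39, 63, 0, [3, 0, 1, 2]),
   (39, 65, 8, [3, 0, 1, 2]),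
   (39, 66, 14, [3, 2, 1, 2, 0, 1, 2, 1, 0]),
   (39, 69, 0, [2, 1, 2, 3, 0, 1, 2]),
   (39, 70, 8, [2, 1, 2, 3, 0, 1, 2]),
   (39, 71, 10, [0, 1, 2, 3, 1, 0]),
   (40, 36, 2, [2, 3, 1, 2, 1]),
   (40, 37, 4, [1]),
   (40, 38, 2, [3, 1, 2, 1]),
   (40, 39, 13, [2, 1]),
   (40, 41, 16, [2, 3, 1, 2, 1]),
   (40, 44, 13, [1]),
   (40, 45, 16, [3, 1, 2, 1]),
   (40, 46, 7, [1, 0]),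
   (40, 47, 15, [3, 1, 2, 1, 0]),
   (40, 48, 4, [1, 0]),
   (40, 49, 2, [3, 1, 2, 0, 1]),
   (40, 51, 15, [2, 3, 1, 2, 1, 0]),
   (40, 52, 2, [2, 3, 1, 2, 0, 1]),
   (40, 53, 13, [1, 0]),
   (40, 54, 16, [3, 1, 2, 0, 1]),
   (40, 55, 16, [2, 3, 1, 2, 0, 1]),
   (40, 60, 15, [3, 1, 2]),
   (40, 63, 7, [3, 2, 1, 2, 3, 1, 0]),
   (40, 65, 15, [3, 1, 2, 0]),
   (40, 66, 4, [3, 2, 1, 2, 3, 1, 0]),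
   (40, 69, 15, [2, 3, 1, 2, 0]),
   (40, 70, 13, [3, 2, 1, 2, 3, 1, 0]),
   (40, 71, 15, [0, 1, 2, 3, 0, 1, 2, 0]),
   (41, 36, 16, [1, 2]),
   (41, 37, 2, [1, 2, 1]),
   (41, 38, 4, [3, 1]),
   (41, 39, 13, [3, 2, 1]),
   (41, 40, 16, [2, 3, 2, 1, 2, 1]),
   (41, 44, 15, [1, 2]),
   (41, 45, 16, [1, 2, 1]),
   (41, 46, 7, [3, 1, 0]),
   (41, 47, 15, [1, 2, 1, 0]),
   (41, 48, 2, [1, 2, 0, 1]),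
   (41, 49, 4, [3, 1, 0]),
   (41, 51, 7, [2, 1, 2, 3, 1, 0]),
   (41, 52, 2, [2, 3, 2, 1, 2, 0, 1]),
   (41, 53, 15, [1, 2, 0]),
   (41, 54, 16, [1, 2, 0, 1]),
   (41, 55, 4, [2, 1, 2, 3, 1, 0]),
   (41, 60, 13, [3, 1]),
   (41, 63, 15, [2, 3, 2, 1, 2, 1, 0]),
   (41, 65, 13, [3, 1, 0]),
   (41, 66, 16, [2, 3, 2, 1, 2, 0, 1]),
   (41, 69, 15, [2, 3, 2, 1, 2, 0]),
   (41, 70, 13, [2, 1, 2, 3, 1, 0]),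
   (41, 71, 15, [0, 1, 2, 3, 2, 0, 1, 2, 0]),
   (44, 36, 6, [2, 3]),
   (44, 37, 12, []),
   (44, 38, 14, [2]),
   (44, 39, 10, [2]),
   (44, 40, 12, [1]),
   (44, 41, 14, [1, 2]),
   (44, 45, 12, [2, 3, 2, 1]),
   (44, 46, 0, [1, 2, 0, 1, 2]),
   (44, 47, 0, [2, 0, 1, 2]),
   (44, 48, 14, [2, 3, 0, 1, 2, 1, 0]),
   (44, 49, 6, [2, 0, 1, 2, 3, 1, 0]),
   (44, 51, 8, [1, 2, 0, 1, 2]),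
   (44, 52, 14, [2, 0, 1, 2, 1, 0]),
   (44, 53, 8, [2, 0, 1, 2]),
   (44, 54, 14, [1, 2, 0, 1, 2, 1, 0]),
   (44, 55, 12, [2, 0, 1, 2, 3, 1, 2, 0, 1]),
   (44, 60, 10, [2, 3]),
   (44, 63, 0, [2, 3, 0, 1, 2]),
   (44, 65, 0, [1, 2, 3, 0, 1, 2]),
   (44, 66, 14, [2, 3, 2, 1, 2, 0, 1, 2, 1, 0]),
   (44, 69, 8, [2, 3, 0, 1, 2]),
   (44, 70, 8, [1, 2, 3, 0, 1, 2]),
   (44, 71, 10, [2, 0, 1, 2, 3, 1, 0]),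
   (45, 36, 4, [2, 3, 1]),
   (45, 37, 16, [3, 2, 1, 2]),
   (45, 38, 16, [2, 1, 2]),
   (45, 39, 15, [2, 1, 2]),
   (45, 40, 16, [3, 2, 1, 2, 1]),
   (45, 41, 16, [2, 1, 2, 1]),
   (45, 44, 13, [2, 3, 2, 1]),
   (45, 46, 7, [2, 3, 1, 0]),
   (45, 47, 7, [1, 2, 3, 1, 0]),
   (45, 48, 2, [2, 1, 2, 0, 1]),
   (45, 49, 2, [3, 2, 1, 2, 0, 1]),
   (45, 51, 15, [2, 1, 2, 1, 0]),
   (45, 52, 4, [2, 3, 1, 0]),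
   (45, 53, 15, [2, 1, 2, 0]),
   (45, 54, 4, [1, 2, 3, 1, 0]),
   (45, 55, 16, [2, 1, 2, 0, 1]),
   (45, 60, 13, [2, 3, 1]),
   (45, 63, 15, [3, 2, 1, 2, 1, 0]),
   (45, 65, 15, [3, 2, 1, 2, 0]),
   (45, 66, 16, [3, 2, 1, 2, 0, 1]),
   (45, 69, 13, [2, 3, 1, 0]),
   (45, 70, 13, [1, 2, 3, 1, 0]),
   (45, 71, 15, [2, 0, 1, 2, 3, 2, 0, 1, 2, 0]),
   (46, 36, 14, [1, 0]),
   (46, 37, 14, [3, 2, 1, 0]),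
   (46, 38, 14, [2, 1, 0]),
   (46, 39, 0, []),
   (46, 40, 6, [1, 0]),
   (46, 41, 6, [3, 1, 0]),
   (46, 44, 0, [2]),
   (46, 45, 6, [2, 3, 1, 0]),
   (46, 47, 8, []),
   (46, 48, 12, [1, 2, 0, 1]),
   (46, 49, 12, [3, 1, 2, 0, 1]),
   (46, 51, 8, [2]),
   (46, 52, 12, [2, 3, 1, 2, 0, 1]),
   (46, 53, 10, [1, 0]),
   (46, 54, 14, [1, 2, 0, 1, 2]),
   (46, 55, 14, [2, 1, 2, 0, 1, 2]),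
   (46, 60, 0, [3, 2]),
   (46, 63, 8, [3, 2]),
   (46, 65, 10, [3, 1, 0]),
   (46, 66, 14, [3, 2, 1, 2, 0, 1, 2]),
   (46, 69, 10, [2, 3, 1, 0]),
   (46, 70, 0, [1, 2, 0, 1, 2, 3, 0, 1, 2]),
   (46, 71, 8, [1, 2, 0, 1, 2, 3, 0, 1, 2]),
   (47, 36, 14, [0]),
   (47, 37, 6, [0]),
   (47, 38, 6, [3, 0]),
   (47, 39, 8, [2, 1, 2, 0, 1, 2, 1]),
   (47, 40, 14, [3, 1, 2, 1, 0]),
   (47, 41, 14, [1, 2, 1, 0]),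
   (47, 44, 0, [1, 2]),
   (47, 45, 6, [1, 2, 3, 1, 0]),
   (47, 46, 8, [1]),
   (47, 48, 12, [2, 0, 1]),
   (47, 49, 12, [3, 2, 0, 1]),
   (47, 51, 10, [0]),
   (47, 52, 14, [2, 0, 1, 2]),
   (47, 53, 8, [1, 2]),
   (47, 54, 12, [1, 2, 3, 1, 2, 0, 1]),
   (47, 55, 14, [2, 1, 2, 0, 1, 2, 0]),
   (47, 60, 0, [3, 1, 2]),
   (47, 63, 10, [3, 0]),
   (47, 65, 8, [3, 1, 2]),
   (47, 66, 14, [3, 2, 1, 2, 0, 1, 2, 0]),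
   (47, 69, 0, [2, 0, 1, 2, 3, 0, 1, 2]),
   (47, 70, 10, [1, 2, 3, 1, 0]),
   (47, 71, 8, [2, 0, 1, 2, 3, 0, 1, 2]),
   (48, 36, 2, [2, 3, 0, 1, 2, 1]),
   (48, 37, 4, [0, 1]),
   (48, 38, 2, [3, 0, 1, 2, 1]),
   (48, 39, 15, [3, 0, 1, 2, 1, 0]),
   (48, 40, 4, [0, 1, 0]),
   (48, 41, 2, [3, 0, 1, 2, 0, 1]),
   (48, 44, 15, [2, 3, 0, 1, 2, 1, 0]),
   (48, 45, 2, [2, 3, 0, 1, 2, 0, 1]),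
   (48, 46, 13, [1, 2, 0, 1]),
   (48, 47, 13, [2, 0, 1]),
   (48, 49, 16, [2, 3, 0, 1, 2, 1]),
   (48, 51, 13, [0, 1]),
   (48, 52, 16, [3, 0, 1, 2, 1]),
   (48, 53, 13, [0, 1, 0]),
   (48, 54, 16, [3, 0, 1, 2, 0, 1]),
   (48, 55, 16, [2, 3, 0, 1, 2, 0, 1]),
   (48, 60, 7, [3, 2, 0, 1, 2, 3, 1, 0]),
   (48, 63, 15, [3, 0, 1, 2]),
   (48, 65, 15, [3, 0, 1, 2, 0]),
   (48, 66, 4, [3, 2, 0, 1, 2, 3, 1, 0]),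
   (48, 69, 15, [2, 3, 0, 1, 2, 0]),
   (48, 70, 15, [1, 2, 3, 0, 1, 2, 0]),
   (48, 71, 13, [3, 2, 0, 1, 2, 3, 1, 0]),
   (49, 36, 16, [0, 1, 2]),
   (49, 37, 2, [0, 1, 2, 1]),
   (49, 38, 4, [3, 0, 1]),
   (49, 39, 15, [0, 1, 2, 1, 0]),
   (49, 40, 2, [0, 1, 2, 0, 1]),
   (49, 41, 4, [3, 0, 1, 0]),
   (49, 44, 7, [2, 0, 1, 2, 3, 1, 0]),
   (49, 45, 2, [2, 3, 2, 0, 1, 2, 0, 1]),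
   (49, 46, 13, [3, 1, 2, 0, 1]),
   (49, 47, 13, [3, 2, 0, 1]),
   (49, 48, 16, [2, 3, 2, 0, 1, 2, 1]),
   (49, 51, 15, [0, 1, 2]),
   (49, 52, 16, [0, 1, 2, 1]),
   (49, 53, 15, [0, 1, 2, 0]),
   (49, 54, 16, [0, 1, 2, 0, 1]),
   (49, 55, 4, [2, 0, 1, 2, 3, 1, 0]),
   (49, 60, 15, [2, 3, 2, 0, 1, 2, 1, 0]),
   (49, 63, 13, [3, 0, 1]),
   (49, 65, 13, [3, 0, 1, 0]),
   (49, 66, 16, [2, 3, 2, 0, 1, 2, 0, 1]),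
   (49, 69, 15, [2, 3, 2, 0, 1, 2, 0]),
   (49, 70, 15, [1, 2, 3, 2, 0, 1, 2, 0]),
   (49, 71, 13, [2, 0, 1, 2, 3, 1, 0]),
   (51, 36, 6, [2, 3, 0]),
   (51, 37, 12, [0]),
   (51, 38, 14, [2, 0]),
   (51, 39, 0, [2, 1, 2]),
   (51, 40, 14, [2, 3, 1, 2, 1, 0]),
   (51, 41, 6, [2, 1, 2, 3, 1, 0]),
   (51, 44, 8, [1, 2, 0, 1, 2, 1]),
   (51, 45, 14, [2, 1, 2, 1, 0]),
   (51, 46, 8, [2, 1]),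
   (51, 47, 10, [2, 0]),
   (51, 48, 12, [0, 1]),
   (51, 49, 14, [0, 1, 2]),
   (51, 52, 12, [2, 3, 2, 0, 1]),
   (51, 53, 8, [2, 1, 2]),
   (51, 54, 14, [1, 2, 0, 1, 2, 0]),
   (51, 55, 12, [2, 1, 2, 3, 1, 2, 0, 1]),
   (51, 60, 0, [2, 3, 1, 2]),
   (51, 63, 10, [2, 3, 0]),
   (51, 65, 0, [0, 1, 2, 3, 0, 1, 2]),
   (51, 66, 14, [2, 3, 2, 1, 2, 0, 1, 2, 0]),
   (51, 69, 8, [2, 3, 1, 2]),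
   (51, 70, 10, [2, 1, 2, 3, 1, 0]),
   (51, 71, 8, [0, 1, 2, 3, 0, 1, 2]),
   (52, 36, 4, [2, 3, 0, 1]),
   (52, 37, 16, [3, 2, 0, 1, 2]),
   (52, 38, 16, [2, 0, 1, 2]),
   (52, 39, 7, [0, 1, 2, 3, 1, 0]),
   (52, 40, 2, [2, 0, 1, 2, 0, 1]),
   (52, 41, 2, [3, 2, 0, 1, 2, 0, 1]),
   (52, 44, 15, [2, 0, 1, 2, 1, 0]),
   (52, 45, 4, [2, 3, 0, 1, 0]),
   (52, 46, 13, [2, 3, 1, 2, 0, 1]),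
   (52, 47, 15, [2, 0, 1, 2]),
   (52, 48, 16, [3, 2, 0, 1, 2, 1]),
   (52, 49, 16, [2, 0, 1, 2, 1]),
   (52, 51, 13, [2, 3, 2, 0, 1]),
   (52, 53, 15, [2, 0, 1, 2, 0]),
   (52, 54, 4, [0, 1, 2, 3, 1, 0]),
   (52, 55, 16, [2, 0, 1, 2, 0, 1]),
   (52, 60, 15, [3, 2, 0, 1, 2, 1, 0]),
   (52, 63, 13, [2, 3, 0, 1]),
   (52, 65, 15, [3, 2, 0, 1, 2, 0]),
   (52, 66, 16, [3, 2, 0, 1, 2, 0, 1]),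
   (52, 69, 13, [2, 3, 0, 1, 0]),
   (52, 70, 15, [2, 1, 2, 3, 2, 0, 1, 2, 0]),
   (52, 71, 13, [0, 1, 2, 3, 1, 0]),
   (53, 36, 6, [1, 2, 3, 0]),
   (53, 37, 14, [1, 2, 3, 1, 2, 1, 0]),
   (53, 38, 6, [2, 1, 2, 3, 0]),
   (53, 39, 8, [0, 1, 2, 1]),
   (53, 40, 12, [1, 0]),
   (53, 41, 14, [1, 2, 0]),
   (53, 44, 8, [2, 0, 1, 2, 1]),
   (53, 45, 14, [2, 1, 2, 0]),
   (53, 46, 10, [1, 2, 0]),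
   (53, 47, 8, [1, 2, 1]),
   (53, 48, 12, [0, 1, 0]),
   (53, 49, 14, [0, 1, 2, 0]),
   (53, 51, 8, [2, 1, 2, 1]),
   (53, 52, 14, [2, 0, 1, 2, 0]),
   (53, 54, 12, [1, 2, 3, 2, 0, 1]),
   (53, 55, 12, [2, 1, 2, 3, 2, 0, 1]),
   (53, 60, 0, [1, 2, 3, 1, 2]),
   (53, 63, 0, [0, 1, 2, 3, 1, 2]),
   (53, 65, 10, [1, 2, 3, 0]),
   (53, 66, 14, [1, 2, 3, 2, 1, 2, 0, 1, 2, 0]),
   (53, 69, 10, [2, 1, 2, 3, 0]),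
   (53, 70, 8, [1, 2, 3, 1, 2]),
   (53, 71, 8, [0, 1, 2, 3, 1, 2]),
   (54, 36, 4, [1, 2, 3, 0, 1]),
   (54, 37, 2, [1, 2, 0, 1, 2, 0, 1]),
   (54, 38, 2, [3, 1, 2, 0, 1, 2, 0, 1]),
   (54, 39, 13, [0, 1, 2, 3, 1, 2, 0, 1]),
   (54, 40, 16, [3, 1, 2, 0, 1, 2]),
   (54, 41, 16, [1, 2, 0, 1, 2]),
   (54, 44, 15, [1, 2, 0, 1, 2, 1, 0]),
   (54, 45, 4, [1, 2, 3, 0, 1, 0]),
   (54, 46, 15, [1, 2, 0, 1, 2]),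
   (54, 47, 13, [1, 2, 3, 1, 2, 0, 1]),
   (54, 48, 16, [3, 1, 2, 0, 1, 2, 1]),
   (54, 49, 16, [1, 2, 0, 1, 2, 1]),
   (54, 51, 15, [1, 2, 0, 1, 2, 0]),
   (54, 52, 4, [0, 1, 2, 3, 0, 1, 0]),
   (54, 53, 13, [1, 2, 3, 2, 0, 1]),
   (54, 55, 16, [1, 2, 0, 1, 2, 0, 1]),
   (54, 60, 15, [3, 1, 2, 0, 1, 2, 1, 0]),
   (54, 63, 15, [3, 1, 2, 0, 1, 2, 0]),
   (54, 65, 13, [1, 2, 3, 0, 1]),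
   (54, 66, 16, [3, 1, 2, 0, 1, 2, 0, 1]),
   (54, 69, 15, [2, 1, 2, 3, 1, 2, 0, 1, 2, 0]),
   (54, 70, 13, [1, 2, 3, 0, 1, 0]),
   (54, 71, 13, [0, 1, 2, 3, 0, 1, 0]),
   (55, 36, 2, [2, 3, 1, 2, 0, 1, 2, 0, 1]),
   (55, 37, 16, [1, 2, 3, 1, 2, 0, 1, 2]),
   (55, 38, 4, [2, 1, 2, 3, 0, 1]),
   (55, 39, 15, [2, 1, 2, 0, 1, 2, 1, 0]),
   (55, 40, 16, [2, 3, 1, 2, 0, 1, 2]),
   (55, 41, 4, [2, 1, 2, 3, 0, 1, 0]),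
   (55, 44, 13, [2, 0, 1, 2, 3, 1, 2, 0, 1]),
   (55, 45, 16, [2, 1, 2, 0, 1, 2]),
   (55, 46, 15, [2, 1, 2, 0, 1, 2]),
   (55, 47, 15, [2, 1, 2, 0, 1, 2, 0]),
   (55, 48, 16, [2, 3, 1, 2, 0, 1, 2, 1]),
   (55, 49, 4, [2, 0, 1, 2, 3, 0, 1, 0]),
   (55, 51, 13, [2, 1, 2, 3, 1, 2, 0, 1]),
   (55, 52, 16, [2, 1, 2, 0, 1, 2, 1]),
   (55, 53, 13, [2, 1, 2, 3, 2, 0, 1]),
   (55, 54, 16, [2, 1, 2, 0, 1, 2, 0, 1]),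
   (55, 60, 15, [2, 3, 1, 2, 0, 1, 2, 1, 0]),
   (55, 63, 15, [2, 3, 1, 2, 0, 1, 2, 0]),
   (55, 65, 15, [1, 2, 3, 1, 2, 0, 1, 2, 0]),
   (55, 66, 16, [2, 3, 1, 2, 0, 1, 2, 0, 1]),
   (55, 69, 13, [2, 1, 2, 3, 0, 1]),
   (55, 70, 13, [2, 1, 2, 3, 0, 1, 0]),
   (55, 71, 13, [2, 0, 1, 2, 3, 0, 1, 0]),
   (60, 36, 12, [2, 3]),
   (60, 37, 14, [3, 2]),
   (60, 38, 12, [3]),
   (60, 39, 10, [3, 2]),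
   (60, 40, 14, [3, 1, 2]),
   (60, 41, 12, [3, 1]),
   (60, 44, 10, [2, 3, 2]),
   (60, 45, 12, [2, 3, 1]),
   (60, 46, 0, [3, 1, 2, 0, 1, 2]),
   (60, 47, 0, [3, 2, 0, 1, 2]),
   (60, 48, 6, [3, 2, 0, 1, 2, 3, 1, 0]),
   (60, 49, 14, [2, 3, 2, 0, 1, 2, 1, 0]),
   (60, 51, 0, [2, 3, 2, 0, 1, 2]),
   (60, 52, 14, [3, 2, 0, 1, 2, 1, 0]),
   (60, 53, 0, [1, 2, 3, 2, 0, 1, 2]),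
   (60, 54, 14, [3, 1, 2, 0, 1, 2, 1, 0]),
   (60, 55, 14, [2, 3, 1, 2, 0, 1, 2, 1, 0]),
   (60, 63, 8, [3, 1, 2, 0, 1, 2]),
   (60, 65, 8, [3, 2, 0, 1, 2]),
   (60, 66, 12, [3, 2, 0, 1, 2, 3, 1, 2, 0, 1]),
   (60, 69, 8, [2, 3, 2, 0, 1, 2]),
   (60, 70, 8, [1, 2, 3, 2, 0, 1, 2]),
   (60, 71, 10, [3, 2, 0, 1, 2, 3, 1, 0]),
   (63, 36, 12, [2, 3, 0]),
   (63, 37, 14, [3, 2, 0]),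
   (63, 38, 12, [3, 0]),
   (63, 39, 0, [3, 2, 1, 2]),
   (63, 40, 6, [3, 2, 1, 2, 3, 1, 0]),
   (63, 41, 14, [2, 3, 2, 1, 2, 1, 0]),
   (63, 44, 0, [2, 3, 2, 1, 2]),
   (63, 45, 14, [3, 2, 1, 2, 1, 0]),
   (63, 46, 8, [3, 2, 1]),
   (63, 47, 10, [3, 2, 0]),
   (63, 48, 14, [3, 0, 1, 2]),
   (63, 49, 12, [3, 0, 1]),
   (63, 51, 10, [2, 3, 2, 0]),
   (63, 52, 12, [2, 3, 0, 1]),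
   (63, 53, 0, [0, 1, 2, 3, 2, 0, 1, 2]),
   (63, 54, 14, [3, 1, 2, 0, 1, 2, 0]),
   (63, 55, 14, [2, 3, 1, 2, 0, 1, 2, 0]),
   (63, 60, 8, [3, 1, 2, 0, 1, 2, 1]),
   (63, 65, 8, [3, 2, 1, 2]),
   (63, 66, 12, [3, 2, 1, 2, 3, 1, 2, 0, 1]),
   (63, 69, 8, [2, 3, 2, 1, 2]),
   (63, 70, 10, [3, 2, 1, 2, 3, 1, 0]),
   (63, 71, 8, [0, 1, 2, 3, 2, 0, 1, 2]),
   (65, 36, 12, [1, 2, 3, 0]),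
   (65, 37, 6, [3, 2, 1, 2, 3, 0]),
   (65, 38, 14, [1, 2, 3, 2, 1, 2, 1, 0]),
   (65, 39, 8, [3, 0, 1, 2, 1]),
   (65, 40, 14, [3, 1, 2, 0]),
   (65, 41, 12, [3, 1, 0]),
   (65, 44, 0, [1, 2, 3, 2, 1, 2]),
   (65, 45, 14, [3, 2, 1, 2, 0]),
   (65, 46, 10, [3, 1, 2, 0]),
   (65, 47, 8, [3, 1, 2, 1]),
   (65, 48, 14, [3, 0, 1, 2, 0]),
   (65, 49, 12, [3, 0, 1, 0]),
   (65, 51, 0, [0, 1, 2, 3, 2, 1, 2]),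
   (65, 52, 14, [3, 2, 0, 1, 2, 0]),
   (65, 53, 10, [1, 2, 3, 2, 0]),
   (65, 54, 12, [1, 2, 3, 0, 1]),
   (65, 55, 14, [1, 2, 3, 1, 2, 0, 1, 2, 0]),
   (65, 60, 8, [3, 2, 0, 1, 2, 1]),
   (65, 63, 8, [3, 2, 1, 2, 1]),
   (65, 66, 12, [3, 2, 1, 2, 3, 2, 0, 1]),
   (65, 69, 10, [3, 2, 1, 2, 3, 0]),
   (65, 70, 8, [1, 2, 3, 2, 1, 2]),
   (65, 71, 8, [0, 1, 2, 3, 2, 1, 2]),
   (66, 36, 16, [2, 1, 2, 3, 2, 1, 2, 0, 1, 2]),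
   (66, 37, 4, [3, 2, 1, 2, 3, 0, 1]),
   (66, 38, 16, [1, 2, 3, 2, 1, 2, 0, 1, 2]),
   (66, 39, 15, [3, 2, 1, 2, 0, 1, 2, 1, 0]),
   (66, 40, 4, [3, 2, 1, 2, 3, 0, 1, 0]),
   (66, 41, 16, [2, 3, 2, 1, 2, 0, 1, 2]),
   (66, 44, 15, [2, 3, 2, 1, 2, 0, 1, 2, 1, 0]),
   (66, 45, 16, [3, 2, 1, 2, 0, 1, 2]),
   (66, 46, 15, [3, 2, 1, 2, 0, 1, 2]),
   (66, 47, 15, [3, 2, 1, 2, 0, 1, 2, 0]),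
   (66, 48, 4, [3, 2, 0, 1, 2, 3, 0, 1, 0]),
   (66, 49, 16, [2, 3, 2, 1, 2, 0, 1, 2, 1]),
   (66, 51, 15, [2, 3, 2, 1, 2, 0, 1, 2, 0]),
   (66, 52, 16, [3, 2, 1, 2, 0, 1, 2, 1]),
   (66, 53, 15, [1, 2, 3, 2, 1, 2, 0, 1, 2, 0]),
   (66, 54, 16, [3, 2, 1, 2, 0, 1, 2, 0, 1]),
   (66, 55, 16, [2, 3, 2, 1, 2, 0, 1, 2, 0, 1]),
   (66, 60, 13, [3, 2, 0, 1, 2, 3, 1, 2, 0, 1]),
   (66, 63, 13, [3, 2, 1, 2, 3, 1, 2, 0, 1]),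
   (66, 65, 13, [3, 2, 1, 2, 3, 2, 0, 1]),
   (66, 69, 13, [3, 2, 1, 2, 3, 0, 1]),
   (66, 70, 13, [3, 2, 1, 2, 3, 0, 1, 0]),
   (66, 71, 13, [3, 2, 0, 1, 2, 3, 0, 1, 0]),
   (69, 36, 14, [2, 1, 2, 3, 2, 1, 2, 1, 0]),
   (69, 37, 12, [3, 2, 1, 2, 3, 0]),
   (69, 38, 12, [2, 1, 2, 3, 0]),
   (69, 39, 0, [2, 1, 2, 3, 2, 1, 2]),
   (69, 40, 14, [2, 3, 1, 2, 0]),
   (69, 41, 14, [2, 3, 2, 1, 2, 0]),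
   (69, 44, 8, [2, 3, 0, 1, 2, 1]),
   (69, 45, 12, [2, 3, 1, 0]),
   (69, 46, 10, [2, 3, 1, 2, 0]),
   (69, 47, 0, [2, 0, 1, 2, 3, 2, 1, 2]),
   (69, 48, 14, [2, 3, 0, 1, 2, 0]),
   (69, 49, 14, [2, 3, 2, 0, 1, 2, 0]),
   (69, 51, 8, [2, 3, 1, 2, 1]),
   (69, 52, 12, [2, 3, 0, 1, 0]),
   (69, 53, 10, [2, 1, 2, 3, 2, 0]),
   (69, 54, 14, [2, 1, 2, 3, 1, 2, 0, 1, 2, 0]),
   (69, 55, 12, [2, 1, 2, 3, 0, 1]),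
   (69, 60, 8, [2, 3, 2, 0, 1, 2, 1]),
   (69, 63, 8, [2, 3, 2, 1, 2, 1]),
   (69, 65, 10, [3, 2, 1, 2, 3, 2, 0]),
   (69, 66, 12, [3, 2, 1, 2, 3, 0, 1]),
   (69, 70, 8, [2, 1, 2, 3, 2, 1, 2]),
   (69, 71, 8, [2, 0, 1, 2, 3, 2, 1, 2]),
   (70, 36, 14, [2, 1, 2, 3, 2, 1, 2, 0]),
   (70, 37, 14, [1, 2, 3, 1, 2, 0]),
   (70, 38, 14, [1, 2, 3, 2, 1, 2, 0]),
   (70, 39, 8, [2, 1, 2, 3, 0, 1, 2, 1]),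
   (70, 40, 12, [3, 2, 1, 2, 3, 1, 0]),
   (70, 41, 12, [2, 1, 2, 3, 1, 0]),
   (70, 44, 8, [1, 2, 3, 0, 1, 2, 1]),
   (70, 45, 12, [1, 2, 3, 1, 0]),
   (70, 46, 0, [1, 2, 0, 1, 2, 3, 2, 1, 2]),
   (70, 47, 10, [1, 2, 3, 1, 2, 0]),
   (70, 48, 14, [1, 2, 3, 0, 1, 2, 0]),
   (70, 49, 14, [1, 2, 3, 2, 0, 1, 2, 0]),
   (70, 51, 10, [2, 1, 2, 3, 1, 2, 0]),
   (70, 52, 14, [2, 1, 2, 3, 2, 0, 1, 2, 0]),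
   (70, 53, 8, [1, 2, 3, 1, 2, 1]),
   (70, 54, 12, [1, 2, 3, 0, 1, 0]),
   (70, 55, 12, [2, 1, 2, 3, 0, 1, 0]),
   (70, 60, 8, [1, 2, 3, 2, 0, 1, 2, 1]),
   (70, 63, 10, [3, 2, 1, 2, 3, 1, 2, 0]),
   (70, 65, 8, [1, 2, 3, 2, 1, 2, 1]),
   (70, 66, 12, [3, 2, 1, 2, 3, 0, 1, 0]),
   (70, 69, 8, [2, 1, 2, 3, 2, 1, 2, 1]),
   (70, 71, 8, [1, 2, 0, 1, 2, 3, 2, 1, 2]),
   (71, 36, 14, [2, 0, 1, 2, 3, 2, 1, 2, 0]),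
   (71, 37, 14, [0, 1, 2, 3, 1, 2, 0]),
   (71, 38, 14, [0, 1, 2, 3, 2, 1, 2, 0]),
   (71, 39, 10, [0, 1, 2, 3, 1, 2, 0]),
   (71, 40, 14, [0, 1, 2, 3, 0, 1, 2, 0]),
   (71, 41, 14, [0, 1, 2, 3, 2, 0, 1, 2, 0]),
   (71, 44, 10, [2, 0, 1, 2, 3, 1, 2, 0]),
   (71, 45, 14, [2, 0, 1, 2, 3, 2, 0, 1, 2, 0]),
   (71, 46, 8, [1, 2, 0, 1, 2, 3, 0, 1, 2, 1]),
   (71, 47, 8, [2, 0, 1, 2, 3, 0, 1, 2, 1]),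
   (71, 48, 12, [3, 2, 0, 1, 2, 3, 1, 0]),
   (71, 49, 12, [2, 0, 1, 2, 3, 1, 0]),
   (71, 51, 8, [0, 1, 2, 3, 0, 1, 2, 1]),
   (71, 52, 12, [0, 1, 2, 3, 1, 0]),
   (71, 53, 8, [0, 1, 2, 3, 1, 2, 1]),
   (71, 54, 12, [0, 1, 2, 3, 0, 1, 0]),
   (71, 55, 12, [2, 0, 1, 2, 3, 0, 1, 0]),
   (71, 60, 10, [3, 2, 0, 1, 2, 3, 1, 2, 0]),
   (71, 63, 8, [0, 1, 2, 3, 2, 0, 1, 2, 1]),
   (71, 65, 8, [0, 1, 2, 3, 2, 1, 2, 1]),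
   (71, 66, 12, [3, 2, 0, 1, 2, 3, 0, 1, 0]),
   (71, 69, 8, [2, 0, 1, 2, 3, 2, 1, 2, 1]),
   (71, 70, 8, [1, 2, 0, 1, 2, 3, 2, 1, 2, 1])]

/-- certificates `(r, l)`: `wl l 44 = r` for the fixed roots `r` -/
def longCert : List (ℕ × List ℕ) :=
  [(0, [0, 1, 2, 3, 1, 2, 0, 1, 2]),
   (1, [1, 2, 3, 1, 2, 0, 1, 2]),
   (2, [2, 3, 1, 2, 0, 1, 2]),
   (6, [3, 1, 2, 0, 1, 2]),
   (8, [3, 2, 0, 1, 2]),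
   (11, [3, 2, 1, 2]),
   (18, [1, 2, 0, 1, 2]),
   (20, [2, 0, 1, 2]),
   (24, [0, 1, 2]),
   (25, [0, 1, 2, 0]),
   (27, [2, 1, 2]),
   (32, [1, 2]),
   (39, [2]),
   (44, []),
   (46, [1, 2, 0]),
   (47, [2, 0]),
   (51, [0]),
   (53, [1, 0]),
   (60, [3]),
   (63, [3, 0]),
   (65, [3, 1, 0]),
   (69, [2, 3, 1, 0]),
   (70, [1, 2, 3, 1, 0]),
   (71, [0, 1, 2, 3, 1, 0])]

/-- certificates `(r, k, l)`: `wl l` maps the `k`-th simple twisted root to the twisted root of `r` (`r ≤ σ r`) -/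
def rootCert : List (ℕ × ℕ × List ℕ) :=
  [(0, 0, [0, 1, 2, 3, 1, 2, 1, 0]),
   (1, 0, [1, 2, 3, 1, 2, 1, 0]),
   (2, 0, [2, 3, 1, 2, 1, 0]),
   (3, 2, [3, 2, 1, 2, 3, 0, 1, 2]),
   (4, 2, [2, 1, 2, 3, 0, 1, 2]),
   (6, 0, [3, 1, 2, 1, 0]),
   (7, 2, [1, 2, 3, 0, 1, 2]),
   (8, 0, [3, 2, 1, 0]),
   (9, 2, [2, 3, 0, 1, 2]),
   (10, 2, [3, 0, 1, 2]),
   (11, 1, [3, 2, 1]),
   (12, 2, [2, 3, 1, 2]),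
   (13, 2, [3, 1, 2]),
   (14, 2, [3, 2]),
   (15, 3, [3]),
   (18, 0, [1, 2, 1, 0]),
   (20, 0, [2, 1, 0]),
   (21, 2, [0, 1, 2]),
   (24, 0, [1, 0]),
   (25, 0, [0]),
   (27, 1, [2, 1]),
   (28, 2, [1, 2]),
   (29, 2, [2]),
   (32, 1, [1]),
   (36, 3, []),
   (37, 2, []),
   (38, 2, [3]),
   (39, 1, []),
   (40, 2, [1]),
   (41, 2, [3, 1]),
   (44, 1, [2]),
   (45, 2, [2, 3, 1]),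
   (46, 0, []),
   (47, 0, [1]),
   (48, 2, [0, 1]),
   (49, 2, [3, 0, 1]),
   (51, 0, [2, 1]),
   (52, 2, [2, 3, 0, 1]),
   (53, 0, [1, 2, 1]),
   (54, 2, [1, 2, 3, 0, 1]),
   (55, 2, [2, 1, 2, 3, 0, 1]),
   (60, 1, [3, 2]),
   (63, 0, [3, 2, 1]),
   (65, 0, [3, 1, 2, 1]),
   (66, 2, [3, 2, 1, 2, 3, 0, 1]),
   (69, 0, [2, 3, 1, 2, 1]),
   (70, 0, [1, 2, 3, 1, 2, 1]),
   (71, 0, [0, 1, 2, 3, 1, 2, 1])]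

end Cfsg.Agent.Lib.helper3.T2E
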